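import Groth.Agent.LimGrp.Descend

/-!
# Homomorphisms of group schemes over a limit come from a stage
-/

set_option autoImplicit false
set_option linter.style.haveILetI false
set_option backward.isDefEq.respectTransparency false
universe u

open CategoryTheory Limits MonoidalCategory CartesianMonoidalCategory MonObj AlgebraicGeometry
open scoped CategoryTheory.Obj

noncomputable section

namespace Groth.Agent.LimGrp

section Basic

variable {S S' S'' : Scheme.{u}}

theorem reEquiv_mul {f : S'' ⟶ S'} {g : S' ⟶ S} {h : S'' ⟶ S} (e : f ≫ g = h) (T : Over S'') (A : Over S) [GrpObj A]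
    (a b : (Over.map g).obj ((Over.map f).obj T) ⟶ A) :
    reEquiv e T A (a * b) = reEquiv e T A a * reEquiv e T A b := by
  let σ : (Over.map h).obj T ⟶ (Over.map g).obj ((Over.map f).obj T) :=
    Over.homMk (𝟙 T.left) (by simp [← e])
  have hι : ∀ x, reEquiv e T A x = σ ≫ x := fun x => by ext1; simp [σ]
  rw [hι, hι, hι, MonObj.comp_mul]

theorem homEquiv_mul (f : S' ⟶ S) (T : Over S') (A : Over S) [GrpObj A] (a b : (Over.map f).obj T ⟶ A) :
    (Over.mapPullbackAdj f).homEquiv T A (a * b) =
      (Over.mapPullbackAdj f).homEquiv T A a * (Over.mapPullbackAdj f).homEquiv T A b := by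
  simp only [Adjunction.homEquiv_unit]
  rw [Functor.map_mul, MonObj.comp_mul]

theorem homEquiv_symm_mul (f : S' ⟶ S) (T : Over S') (A : Over S) [GrpObj A] (a b : T ⟶ Red.bc f A) :
    ((Over.mapPullbackAdj f).homEquiv T A).symm (a * b) =
      ((Over.mapPullbackAdj f).homEquiv T A).symm a * ((Over.mapPullbackAdj f).homEquiv T A).symm b := by
  apply ((Over.mapPullbackAdj f).homEquiv T A).injective
  rw [Equiv.apply_symm_apply, homEquiv_mul, Equiv.apply_symm_apply, Equiv.apply_symm_apply]

theorem pullbackComp_hom_fst (f : S'' ⟶ S') (g : S' ⟶ S) (X : Over S) :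
    ((Over.pullbackComp f g).hom.app X).left ≫ pullback.fst _ f ≫ pullback.fst X.hom g =
      pullback.fst X.hom (f ≫ g) := by
  simp [Over.pullbackComp, conjugateEquiv, Over.mapPullbackAdj, Over.mapComp]
  exact (Category.id_comp _).trans (Category.id_comp _)

theorem pullbackComp_inv_fst (f : S'' ⟶ S') (g : S' ⟶ S) (X : Over S) :
    ((Over.pullbackComp f g).inv.app X).left ≫ pullback.fst X.hom (f ≫ g) =
      pullback.fst _ f ≫ pullback.fst X.hom g := by
  rw [← pullbackComp_hom_fst, ← Category.assoc, ← Over.comp_left, Iso.inv_hom_id_app]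
  exact Category.id_comp _

theorem eqToHom_fst {f f' : S' ⟶ S} (h : f = f') (X : Over S) :
    (eqToHom (congrArg (fun g => Red.bc g X) h)).left ≫ pullback.fst X.hom f' = pullback.fst X.hom f := by
  subst h; simp

theorem eqToHom_fst' {f f' : S' ⟶ S} (h : f = f') (X : Over S) :
    (eqToIso (congrArg (fun g => Red.bc g X) h)).inv.left ≫ pullback.fst X.hom f = pullback.fst X.hom f' := by
  subst h; simp

end Basic

variable {I : Type u} [SmallCategory I] [IsCofiltered I] (D : I ⥤ Scheme.{u}) (c : Limits.Cone D)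
  (hc : Limits.IsLimit c) [∀ (i i' : I) (f : i ⟶ i'), IsAffineHom (D.map f)]
  [∀ i, CompactSpace (D.obj i)] [∀ i, QuasiSeparatedSpace (D.obj i)]

variable {j : I} (G H : Over (D.obj j)) [GrpObj G] [GrpObj H]
  [LocallyOfFinitePresentation G.hom] [QuasiCompact G.hom] [QuasiSeparated G.hom]
  [LocallyOfFinitePresentation H.hom] [QuasiCompact H.hom] [QuasiSeparated H.hom]

include hc

/-- **Homomorphisms over the limit descend.** -/
theorem exists_hom (u : Red.bc (c.π.app j) G ⟶ Red.bc (c.π.app j) H) (hu : IsMonHom u) :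
    ∃ (i : I) (f : i ⟶ j) (ui : Red.bc (D.map f) G ⟶ Red.bc (D.map f) H), IsMonHom ui ∧
      (Over.pullback (c.π.app i)).map ui =
        (((Over.pullbackComp (c.π.app i) (D.map f)).app G).symm ≪≫
          eqToIso (congrArg (fun g => Red.bc g G) (c.w f))).hom ≫ u ≫
        (((Over.pullbackComp (c.π.app i) (D.map f)).app H).symm ≪≫
          eqToIso (congrArg (fun g => Red.bc g H) (c.w f))).inv := by
  let π := c.π.app j
  let adj := Over.mapPullbackAdj π
  let w : Op π G H :=
    { app := fun T x => (adj.homEquiv T H).symm (adj.homEquiv T G x ≫ u)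
      nat := fun a x => by
        rw [adj.homEquiv_naturality_left, Category.assoc, adj.homEquiv_naturality_left_symm] }
  have hwmul : ∀ (T : Over c.pt) (a b : (Over.map π).obj T ⟶ G), w.app T (a * b) = w.app T a * w.app T b := by
    intro T a b
    haveI := hu
    show (adj.homEquiv T H).symm (adj.homEquiv T G (a * b) ≫ u) = _
    rw [homEquiv_mul, MonObj.mul_comp]
    exact homEquiv_symm_mul π T H _ _
  obtain ⟨j', φ, op, hop⟩ := exists_op D c hc G H w
  let op₁ : Op (D.map φ) (G ⊗ G) H :=
    { app := fun T x => op.app T ((x ≫ fst _ _) * (x ≫ snd _ _))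
      nat := fun a x => by simp only [Category.assoc, ← MonObj.comp_mul, op.nat] }
  let op₂ : Op (D.map φ) (G ⊗ G) H :=
    { app := fun T x => op.app T (x ≫ fst _ _) * op.app T (x ≫ snd _ _)
      nat := fun a x => by simp only [Category.assoc, op.nat, ← MonObj.comp_mul] }
  have hR : ∀ (T : Over c.pt) (x : (Over.map (D.map φ)).obj ((Over.map (c.π.app j')).obj T) ⟶ G),
      reEquiv (c.w φ) T H (op.app _ x) = w.app T (reEquiv (c.w φ) T G x) := by
    intro T x
    have e := congrArg (fun v => v.app T (reEquiv (c.w φ) T G x)) hop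
    simp only [Op.re, Equiv.symm_apply_apply] at e
    exact e
  obtain ⟨i, χ, hχ⟩ := exists_op_eq D c hc (G ⊗ G) H φ op₁ op₂ (by
    simp only [Op.re, Op.mk.injEq]
    funext T x
    obtain ⟨x, rfl⟩ := (reEquiv (c.w φ) T (G ⊗ G)).surjective x
    simp only [Equiv.symm_apply_apply, op₁, op₂]
    rw [hR, reEquiv_mul, hwmul, reEquiv_mul, hR, hR])
  let f : i ⟶ j := χ ≫ φ
  let E := fun (A : Over (D.obj j)) (T : Over (D.obj i)) => stageEquiv D φ χ (A := A) T
  have hEmul : ∀ (A : Over (D.obj j)) [GrpObj A] (T : Over (D.obj i)) (a b : T ⟶ Red.bc (D.map f) A),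
      E A T (a * b) = E A T a * E A T b := by
    intro A _ T a b
    show (reEquiv (D.map_comp χ φ).symm T A).symm (((Over.mapPullbackAdj (D.map f)).homEquiv T A).symm (a * b)) = _
    rw [homEquiv_symm_mul]
    apply (reEquiv (D.map_comp χ φ).symm T A).injective
    rw [Equiv.apply_symm_apply, reEquiv_mul]
    show _ = reEquiv (D.map_comp χ φ).symm T A ((reEquiv (D.map_comp χ φ).symm T A).symm _) *
      reEquiv (D.map_comp χ φ).symm T A ((reEquiv (D.map_comp χ φ).symm T A).symm _)
    rw [Equiv.apply_symm_apply, Equiv.apply_symm_apply]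
  let ui : Red.bc (D.map f) G ⟶ Red.bc (D.map f) H :=
    (E H _).symm (op.app _ (E G _ (𝟙 (Red.bc (D.map f) G))))
  have hui : ∀ (T : Over (D.obj i)) (y : T ⟶ Red.bc (D.map f) G), E H T (y ≫ ui) = op.app _ (E G T y) := by
    intro T y
    rw [show E H T (y ≫ ui) = _ from stageEquiv_comp D φ χ y ui]
    show _ ≫ E H _ ((E H _).symm _) = _
    rw [Equiv.apply_symm_apply, ← op.nat]
    congr 1
  have hmul : ∀ (T : Over (D.obj i)) (a b : T ⟶ Red.bc (D.map f) G), (a * b) ≫ ui = (a ≫ ui) * (b ≫ ui) := by
    intro T a b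
    apply (E H T).injective
    rw [hEmul, hui, hui, hui, hEmul]
    have e := hχ T (lift (E G T a) (E G T b))
    simp only [op₁, op₂, lift_fst, lift_snd] at e
    exact e
  refine ⟨i, f, ui, ⟨?_, ?_⟩, ?_⟩
  · have h' := hmul _ (1 : 𝟙_ (Over (D.obj i)) ⟶ Red.bc (D.map f) G) 1
    rw [_root_.mul_one, right_eq_mul] at h'
    rwa [Hom.one_def, Hom.one_def, toUnit_unit, Category.id_comp, Category.id_comp] at h'
  · have h' := hmul _ (fst (Red.bc (D.map f) G) (Red.bc (D.map f) G)) (snd _ _)
    rw [← MonObj.mul_eq_mul] at h'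
    rw [h', Hom.mul_def, ← tensorHom_fst ui ui, ← tensorHom_snd ui ui, ← comp_lift, lift_fst_snd, Category.comp_id]
  · let Gi := Red.bc (c.π.app i) (Red.bc (D.map f) G)
    let cG := (((Over.pullbackComp (c.π.app i) (D.map f)).app G).symm ≪≫
          eqToIso (congrArg (fun g => Red.bc g G) (c.w f)))
    let cH := (((Over.pullbackComp (c.π.app i) (D.map f)).app H).symm ≪≫
          eqToIso (congrArg (fun g => Red.bc g H) (c.w f)))
    rw [← Category.assoc, Iso.eq_comp_inv]
    have hcA : ∀ (A : Over (D.obj j)),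
        (((Over.pullbackComp (c.π.app i) (D.map f)).app A).symm ≪≫
          eqToIso (congrArg (fun g => Red.bc g A) (c.w f))).hom.left ≫ pullback.fst A.hom π =
        pullback.fst _ (c.π.app i) ≫ pullback.fst A.hom (D.map f) := by
      intro A
      simp only [Iso.trans_hom, Iso.symm_hom, Iso.app_inv, eqToIso.hom, Over.comp_left, Category.assoc]
      rw [eqToHom_fst (c.w f) A, pullbackComp_inv_fst]
    apply (adj.homEquiv Gi H).symm.injective
    -- the point of the model given by the left hand side
    let T' := (Over.map (c.π.app i)).obj Gi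
    let y : T' ⟶ Red.bc (D.map f) G := Over.homMk (pullback.fst _ (c.π.app i)) pullback.condition
    let ε : (Over.map (D.map χ)).obj T' ⟶ (Over.map (c.π.app j')).obj Gi :=
      Over.homMk (𝟙 Gi.left) (by simp [T'])
    have h1 : (E H T' (y ≫ ui)).left = (reEquiv (c.w φ) Gi H
        (op.app _ ((reEquiv (c.w φ) Gi G).symm ((adj.homEquiv Gi G).symm cG.hom)))).left := by
      have hy : E G T' y = (Over.map (D.map φ)).map ε ≫
          (reEquiv (c.w φ) Gi G).symm ((adj.homEquiv Gi G).symm cG.hom) := by
        ext1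
        simp only [E, stageEquiv_left, Over.comp_left, Over.map_map_left, reEquiv_symm_left, adj, y, ε]
        simp only [Over.mapPullbackAdj, Adjunction.mkOfHomEquiv_homEquiv, Equiv.coe_fn_symm_mk, Over.homMk_left]
        erw [hcA G]
      rw [hui, hy, op.nat]
      exact Category.id_comp _
    rw [hR, Equiv.apply_symm_apply] at h1
    simp only [w, Equiv.apply_symm_apply] at h1
    ext1
    refine Eq.trans ?_ h1
    simp only [E, stageEquiv_left, Over.comp_left, y, adj, Over.mapPullbackAdj, Adjunction.mkOfHomEquiv_homEquiv,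
      Equiv.coe_fn_symm_mk, Over.homMk_left, Category.assoc]
    erw [hcA H]
    show pullback.lift _ _ _ ≫ pullback.fst _ (c.π.app i) ≫ _ = _
    rw [pullback.lift_fst_assoc, Category.assoc]

end Groth.Agent.LimGrp
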