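import Groth.Agent.LimGrp.Ops
import Groth.Prelude.Def_Red
import Mathlib.Algebra.Group.MinimalAxioms

/-!
# Group schemes of finite presentation over a limit descend to a stage
-/

set_option autoImplicit false
set_option linter.style.haveILetI false
set_option backward.isDefEq.respectTransparency false
universe u

open CategoryTheory Limits MonoidalCategory CartesianMonoidalCategory MonObj AlgebraicGeometry
open scoped CategoryTheory.Obj

noncomputable section

namespace Groth.Agent.LimGrp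

section Ops

variable {S S' : Scheme.{u}} {h : S' ⟶ S} {A : Over S}

/-- The binary law of an operation on pairs. -/
def Op.bin (m : Op h (A ⊗ A) A) {T : Over S'} (a b : (Over.map h).obj T ⟶ A) : (Over.map h).obj T ⟶ A :=
  m.app T (lift a b)

theorem Op.bin_nat (m : Op h (A ⊗ A) A) {T T' : Over S'} (f : T' ⟶ T) (a b : (Over.map h).obj T ⟶ A) :
    m.bin ((Over.map h).map f ≫ a) ((Over.map h).map f ≫ b) = (Over.map h).map f ≫ m.bin a b := by
  rw [Op.bin, Op.bin, ← m.nat, comp_lift]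

/-- The two sides of associativity. -/
def Op.assocL (m : Op h (A ⊗ A) A) : Op h ((A ⊗ A) ⊗ A) A where
  app T x := m.bin (m.bin (x ≫ fst _ _ ≫ fst _ _) (x ≫ fst _ _ ≫ snd _ _)) (x ≫ snd _ _)
  nat f x := by simp only [Category.assoc, Op.bin_nat]

/-- The two sides of associativity. -/
def Op.assocR (m : Op h (A ⊗ A) A) : Op h ((A ⊗ A) ⊗ A) A where
  app T x := m.bin (x ≫ fst _ _ ≫ fst _ _) (m.bin (x ≫ fst _ _ ≫ snd _ _) (x ≫ snd _ _))
  nat f x := by simp only [Category.assoc, Op.bin_nat]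

/-- The value of a nullary operation. -/
def Op.const (o : Op h (𝟙_ (Over S)) A) (T : Over S') : (Over.map h).obj T ⟶ A := o.app T (toUnit _)

theorem Op.const_nat (o : Op h (𝟙_ (Over S)) A) {T T' : Over S'} (f : T' ⟶ T) :
    o.const T' = (Over.map h).map f ≫ o.const T := by
  rw [Op.const, Op.const, ← o.nat, comp_toUnit]

/-- The side of the unit law. -/
def Op.oneMul (m : Op h (A ⊗ A) A) (o : Op h (𝟙_ (Over S)) A) : Op h A A where
  app T x := m.bin (o.const T) x
  nat f x := by rw [o.const_nat f, Op.bin_nat]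

/-- The identity operation. -/
def Op.idOp : Op h A A where
  app _ x := x
  nat _ _ := rfl

/-- The side of the inverse law. -/
def Op.invMul (m : Op h (A ⊗ A) A) (v : Op h A A) : Op h A A where
  app T x := m.bin (v.app T x) x
  nat f x := by rw [v.nat, Op.bin_nat]

/-- The constant unary operation. -/
def Op.constOp (o : Op h (𝟙_ (Over S)) A) : Op h A A where
  app T _ := o.const T
  nat f x := o.const_nat f

variable {S'' : Scheme.{u}}

/-- The group structure on points given by operations satisfying the laws. -/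
@[implicit_reducible]
def groupPts (m : Op h (A ⊗ A) A) (v : Op h A A) (o : Op h (𝟙_ (Over S)) A) (T : Over S')
    (h1 : ∀ x, m.assocL.app T x = m.assocR.app T x) (h2 : ∀ x, (m.oneMul o).app T x = x)
    (h3 : ∀ x, (m.invMul v).app T x = o.const T) : Group ((Over.map h).obj T ⟶ A) :=
  letI : Mul ((Over.map h).obj T ⟶ A) := ⟨m.bin⟩
  letI : One ((Over.map h).obj T ⟶ A) := ⟨o.const T⟩
  letI : Inv ((Over.map h).obj T ⟶ A) := ⟨v.app T⟩
  Group.ofLeftAxioms
    (fun a b c => by
      have e := h1 (lift (lift a b) c)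
      simp only [Op.assocL, Op.assocR, lift_fst_assoc, lift_fst, lift_snd] at e
      exact e)
    h2 h3

end Ops

section

variable {I : Type u} [SmallCategory I] (D : I ⥤ Scheme.{u}) {i j : I} (φ : j ⟶ i) {A X : Over (D.obj i)}

/-- Two operations agree on the points over a later stage. -/
def EqOn (w w' : Op (D.map φ) X A) {k : I} (χ : k ⟶ j) : Prop :=
  ∀ (T : Over (D.obj k)) (x : (Over.map (D.map φ)).obj ((Over.map (D.map χ)).obj T) ⟶ X),
    w.app _ x = w'.app _ x

theorem EqOn.comp {w w' : Op (D.map φ) X A} {k : I} {χ : k ⟶ j} (h : EqOn D φ w w' χ) {k' : I} (a : k' ⟶ k) :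
    EqOn D φ w w' (a ≫ χ) := by
  intro T x
  let α : (Over.map (D.map (a ≫ χ))).obj T ⟶ (Over.map (D.map χ)).obj ((Over.map (D.map a)).obj T) :=
    Over.homMk (𝟙 T.left) (by simp)
  let β : (Over.map (D.map χ)).obj ((Over.map (D.map a)).obj T) ⟶ (Over.map (D.map (a ≫ χ))).obj T :=
    Over.homMk (𝟙 T.left) (by simp)
  have hx : x = (Over.map (D.map φ)).map α ≫ ((Over.map (D.map φ)).map β ≫ x) := by ext1; simp [α, β]
  rw [hx, w.nat, w'.nat, h]

end

section Product

variable {S : Scheme.{u}} (A B : Over S)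

instance lfp_tensor [LocallyOfFinitePresentation A.hom] [LocallyOfFinitePresentation B.hom] :
    LocallyOfFinitePresentation (A ⊗ B).hom :=
  inferInstanceAs (LocallyOfFinitePresentation (pullback.fst A.hom B.hom ≫ A.hom))

instance qc_tensor [QuasiCompact A.hom] [QuasiCompact B.hom] : QuasiCompact (A ⊗ B).hom :=
  inferInstanceAs (QuasiCompact (pullback.fst A.hom B.hom ≫ A.hom))

instance qs_tensor [QuasiSeparated A.hom] [QuasiSeparated B.hom] : QuasiSeparated (A ⊗ B).hom :=
  inferInstanceAs (QuasiSeparated (pullback.fst A.hom B.hom ≫ A.hom))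

instance lfp_unit : LocallyOfFinitePresentation (𝟙_ (Over S)).hom :=
  inferInstanceAs (LocallyOfFinitePresentation (𝟙 S))

instance qc_unit : QuasiCompact (𝟙_ (Over S)).hom := inferInstanceAs (QuasiCompact (𝟙 S))

instance qs_unit : QuasiSeparated (𝟙_ (Over S)).hom := inferInstanceAs (QuasiSeparated (𝟙 S))

end Product

variable {I : Type u} [SmallCategory I] [IsCofiltered I] (D : I ⥤ Scheme.{u}) (c : Limits.Cone D)
  (hc : Limits.IsLimit c) [∀ (i i' : I) (f : i ⟶ i'), IsAffineHom (D.map f)]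
  [∀ i, CompactSpace (D.obj i)] [∀ i, QuasiSeparatedSpace (D.obj i)]

section Data

variable {i : I} (A : Over (D.obj i)) [LocallyOfFinitePresentation A.hom] [QuasiCompact A.hom]
  [QuasiSeparated A.hom] (G : Over c.pt) [GrpObj G] (g : G.left ⟶ A.left)
  (hg : IsPullback g G.hom A.hom (c.π.app i))

/-- Points of the group over the limit and points of the model. -/
def modelEquiv (T : Over c.pt) : (T ⟶ G) ≃ ((Over.map (c.π.app i)).obj T ⟶ A) where
  toFun a := Over.homMk (a.left ≫ g) (by simp [hg.w, Over.w_assoc])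
  invFun b := Over.homMk (hg.lift b.left T.hom (Over.w b)) (hg.lift_snd _ _ _)
  left_inv a := by
    ext1
    apply hg.hom_ext
    · simp
    · simp [Over.w]
  right_inv b := by
    ext1
    simp

theorem modelEquiv_comp {T T' : Over c.pt} (f : T' ⟶ T) (a : T ⟶ G) :
    modelEquiv D c A G g hg T' (f ≫ a) = (Over.map (c.π.app i)).map f ≫ modelEquiv D c A G g hg T a := by
  ext1; simp [modelEquiv]

theorem modelEquiv_symm_comp {T T' : Over c.pt} (f : T' ⟶ T) (b : (Over.map (c.π.app i)).obj T ⟶ A) :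
    (modelEquiv D c A G g hg T').symm ((Over.map (c.π.app i)).map f ≫ b) =
      f ≫ (modelEquiv D c A G g hg T).symm b := by
  apply (modelEquiv D c A G g hg T').injective
  rw [Equiv.apply_symm_apply, modelEquiv_comp, Equiv.apply_symm_apply]

include hc hg

/-- Operations at a stage satisfying the laws and inducing the group law at the limit. -/
theorem exists_ops :
    ∃ (j : I) (φ : j ⟶ i) (m : Op (D.map φ) (A ⊗ A) A) (v : Op (D.map φ) A A)
      (o : Op (D.map φ) (𝟙_ (Over (D.obj i))) A) (k : I) (χ : k ⟶ j),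
      EqOn D φ m.assocL m.assocR χ ∧ EqOn D φ (m.oneMul o) Op.idOp χ ∧ EqOn D φ (m.invMul v) o.constOp χ ∧
      ∀ (T : Over c.pt) (a b : (Over.map (D.map φ)).obj ((Over.map (c.π.app j)).obj T) ⟶ A),
        reEquiv (c.w φ) T A (m.bin a b) = modelEquiv D c A G g hg T
          ((modelEquiv D c A G g hg T).symm (reEquiv (c.w φ) T A a) *
            (modelEquiv D c A G g hg T).symm (reEquiv (c.w φ) T A b)) := by
  classical
  let Φ := modelEquiv D c A G g hg
  let π := c.π.app i
  let wm : Op π (A ⊗ A) A :=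
    { app := fun T x => Φ T ((Φ T).symm (x ≫ fst _ _) * (Φ T).symm (x ≫ snd _ _))
      nat := fun f x => by
        simp only [Category.assoc, Φ, π, modelEquiv_symm_comp, ← MonObj.comp_mul, modelEquiv_comp] }
  let wv : Op π A A :=
    { app := fun T x => Φ T ((Φ T).symm x)⁻¹
      nat := fun f x => by
        simp only [Φ, π, modelEquiv_symm_comp, ← GrpObj.comp_inv, modelEquiv_comp] }
  let wo : Op π (𝟙_ (Over (D.obj i))) A :=
    { app := fun T _ => Φ T 1
      nat := fun f x => by rw [← modelEquiv_comp, MonObj.comp_one] }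
  obtain ⟨j₁, φ₁, m₁, hm₁⟩ := exists_op D c hc (A ⊗ A) A wm
  obtain ⟨j₂, φ₂, v₂, hv₂⟩ := exists_op D c hc A A wv
  obtain ⟨j₃, φ₃, o₃, ho₃⟩ := exists_op D c hc (𝟙_ (Over (D.obj i))) A wo
  obtain ⟨j₁₂, a₁, a₂, ha⟩ := IsCofiltered.cospan φ₁ φ₂
  obtain ⟨j, b₁₂, b₃, hb⟩ := IsCofiltered.cospan (a₁ ≫ φ₁) φ₃
  let φ : j ⟶ i := b₁₂ ≫ a₁ ≫ φ₁
  have e1 : D.map (b₁₂ ≫ a₁) ≫ D.map φ₁ = D.map φ := by simp [φ]
  have e2 : D.map (b₁₂ ≫ a₂) ≫ D.map φ₂ = D.map φ := by simp [φ, ← Functor.map_comp, ha]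
  have e3 : D.map b₃ ≫ D.map φ₃ = D.map φ := by simp [φ, ← Functor.map_comp, hb]
  have re_re : ∀ {X : Over (D.obj i)} {j' : I} (φ' : j' ⟶ i) (b : j ⟶ j') (e : D.map b ≫ D.map φ' = D.map φ)
      (w : Op (D.map φ') X A), Op.re (c.w φ) (Op.re e w) = Op.re (c.w φ') w := by
    intro X j' φ' b e w
    have hb' : c.π.app j ≫ D.map b = c.π.app j' := c.w b
    simp only [Op.re, Op.mk.injEq]
    funext T x
    let α : (Over.map (D.map b)).obj ((Over.map (c.π.app j)).obj T) ⟶ (Over.map (c.π.app j')).obj T :=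
      Over.homMk (𝟙 T.left) (by
        show 𝟙 _ ≫ T.hom ≫ c.π.app j' = (T.hom ≫ c.π.app j) ≫ D.map b
        rw [Category.id_comp, Category.assoc, hb'])
    have hx : (reEquiv e ((Over.map (c.π.app j)).obj T) X).symm ((reEquiv (c.w φ) T X).symm x) =
        (Over.map (D.map φ')).map α ≫ (reEquiv (c.w φ') T X).symm x := by ext1; simp [α]
    ext1
    rw [reEquiv_left, reEquiv_left, hx, w.nat]
    simp [α]
  let m := Op.re e1 m₁
  let v := Op.re e2 v₂
  let o := Op.re e3 o₃
  have hm : Op.re (c.w φ) m = wm := (re_re φ₁ _ e1 m₁).trans hm₁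
  have hv : Op.re (c.w φ) v = wv := (re_re φ₂ _ e2 v₂).trans hv₂
  have ho : Op.re (c.w φ) o = wo := (re_re φ₃ _ e3 o₃).trans ho₃
  let R := fun (T : Over c.pt) => reEquiv (c.w φ) T A
  have hbin : ∀ (T : Over c.pt) (a b : (Over.map (D.map φ)).obj ((Over.map (c.π.app j)).obj T) ⟶ A),
      R T (m.bin a b) = Φ T ((Φ T).symm (R T a) * (Φ T).symm (R T b)) := by
    intro T a b
    have e := congrArg (fun w => w.app T (reEquiv (c.w φ) T (A ⊗ A) (lift a b))) hm
    simp only [Op.re, Equiv.symm_apply_apply] at e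
    refine e.trans ?_
    show Φ T _ = _
    congr 3
    · ext1
      simp only [R, Over.comp_left, reEquiv_left]
      rw [← Over.comp_left, lift_fst]
    · ext1
      simp only [R, Over.comp_left, reEquiv_left]
      rw [← Over.comp_left, lift_snd]
  have hinv : ∀ (T : Over c.pt) (a : (Over.map (D.map φ)).obj ((Over.map (c.π.app j)).obj T) ⟶ A),
      R T (v.app _ a) = Φ T ((Φ T).symm (R T a))⁻¹ := by
    intro T a
    have e := congrArg (fun w => w.app T (R T a)) hv
    simp only [Op.re, R, Equiv.symm_apply_apply] at e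
    exact e
  have hone : ∀ (T : Over c.pt), R T (o.const _) = Φ T 1 := by
    intro T
    have e := congrArg (fun w => w.app T (toUnit _)) ho
    simp only [Op.re] at e
    refine Eq.trans ?_ e
    rw [Op.const]
    exact congrArg (fun t => R T (o.app _ t)) (toUnit_unique _ _)
  obtain ⟨k₁, χ₁, hk₁⟩ := exists_op_eq D c hc ((A ⊗ A) ⊗ A) A φ m.assocL m.assocR (by
    simp only [Op.re, Op.mk.injEq]
    funext T x
    obtain ⟨x, rfl⟩ := (reEquiv (c.w φ) T ((A ⊗ A) ⊗ A)).surjective x
    simp only [Equiv.symm_apply_apply, Op.assocL, Op.assocR]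
    refine (hbin T _ _).trans (Eq.trans ?_ (hbin T _ _).symm)
    rw [hbin, hbin, Equiv.symm_apply_apply, Equiv.symm_apply_apply, _root_.mul_assoc])
  obtain ⟨k₂, χ₂, hk₂⟩ := exists_op_eq D c hc A A φ (m.oneMul o) Op.idOp (by
    simp only [Op.re, Op.mk.injEq]
    funext T x
    obtain ⟨x, rfl⟩ := (reEquiv (c.w φ) T A).surjective x
    simp only [Equiv.symm_apply_apply, Op.oneMul, Op.idOp]
    refine (hbin T _ _).trans ?_
    rw [hone, Equiv.symm_apply_apply, _root_.one_mul, Equiv.apply_symm_apply])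
  obtain ⟨k₃, χ₃, hk₃⟩ := exists_op_eq D c hc A A φ (m.invMul v) o.constOp (by
    simp only [Op.re, Op.mk.injEq]
    funext T x
    obtain ⟨x, rfl⟩ := (reEquiv (c.w φ) T A).surjective x
    simp only [Equiv.symm_apply_apply, Op.invMul, Op.constOp]
    refine (hbin T _ _).trans (Eq.trans ?_ (hone T).symm)
    rw [hinv, Equiv.symm_apply_apply, inv_mul_cancel])
  obtain ⟨k₁₂, s₁, s₂, hs⟩ := IsCofiltered.cospan χ₁ χ₂
  obtain ⟨k, t₁₂, t₃, ht⟩ := IsCofiltered.cospan (s₁ ≫ χ₁) χ₃
  let χ : k ⟶ j := t₁₂ ≫ s₁ ≫ χ₁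
  have H1 : EqOn D φ m.assocL m.assocR χ := by
    have := EqOn.comp D φ hk₁ (t₁₂ ≫ s₁)
    simpa [χ] using this
  have H2 : EqOn D φ (m.oneMul o) Op.idOp χ := by
    have := EqOn.comp D φ hk₂ (t₁₂ ≫ s₂)
    simpa [χ, ← hs] using this
  have H3 : EqOn D φ (m.invMul v) o.constOp χ := by
    have := EqOn.comp D φ hk₃ t₃
    simpa [χ, ht] using this
  exact ⟨j, φ, m, v, o, k, χ, H1, H2, H3, hbin⟩

end Data

section Stage

variable {i j k : I} (φ : j ⟶ i) (χ : k ⟶ j) {A : Over (D.obj i)} (m : Op (D.map φ) (A ⊗ A) A) (v : Op (D.map φ) A A)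
  (o : Op (D.map φ) (𝟙_ (Over (D.obj i))) A) (H1 : EqOn D φ m.assocL m.assocR χ)
  (H2 : EqOn D φ (m.oneMul o) Op.idOp χ) (H3 : EqOn D φ (m.invMul v) o.constOp χ)

omit [IsCofiltered I] [∀ (i i' : I) (f : i ⟶ i'), IsAffineHom (D.map f)]
  [∀ i, CompactSpace (D.obj i)] [∀ i, QuasiSeparatedSpace (D.obj i)]

/-- Points at the stage as points of the model. -/
def stageEquiv (T : Over (D.obj k)) : (T ⟶ (Over.pullback (D.map (χ ≫ φ))).obj A) ≃
    ((Over.map (D.map φ)).obj ((Over.map (D.map χ)).obj T) ⟶ A) :=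
  ((Over.mapPullbackAdj (D.map (χ ≫ φ))).homEquiv T A).symm.trans (reEquiv (D.map_comp χ φ).symm T A).symm

theorem stageEquiv_left (T : Over (D.obj k)) (a : T ⟶ (Over.pullback (D.map (χ ≫ φ))).obj A) :
    (stageEquiv D φ χ T a).left = a.left ≫ pullback.fst A.hom (D.map (χ ≫ φ)) := by
  simp [stageEquiv, Over.mapPullbackAdj]

theorem stageEquiv_comp {T T' : Over (D.obj k)} (f : T' ⟶ T) (a : T ⟶ (Over.pullback (D.map (χ ≫ φ))).obj A) :
    stageEquiv D φ χ T' (f ≫ a) = (Over.map (D.map φ)).map ((Over.map (D.map χ)).map f) ≫ stageEquiv D φ χ T a := by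
  ext1
  simp only [stageEquiv_left, Over.comp_left, Over.map_map_left, Category.assoc]

include H1 H2 H3 in
/-- The group structure at the stage. -/
theorem exists_grpObj :
    ∃ _ : GrpObj ((Over.pullback (D.map (χ ≫ φ))).obj A),
      ∀ (T : Over (D.obj k)) (a b : T ⟶ (Over.pullback (D.map (χ ≫ φ))).obj A),
        stageEquiv D φ χ T (a * b) = m.bin (stageEquiv D φ χ T a) (stageEquiv D φ χ T b) := by
  let grp : ∀ T : Over (D.obj k), Group ((Over.map (D.map φ)).obj ((Over.map (D.map χ)).obj T) ⟶ A) :=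
    fun T => groupPts m v o _ (H1 T) (H2 T) (H3 T)
  let F : (Over (D.obj k))ᵒᵖ ⥤ GrpCat.{u} :=
    { obj := fun T =>
        @GrpCat.of ((Over.map (D.map φ)).obj ((Over.map (D.map χ)).obj T.unop) ⟶ A) (grp T.unop)
      map := fun {T T'} f =>
        letI := grp T.unop
        letI := grp T'.unop
        GrpCat.ofHom (MonoidHom.mk' (fun a => (Over.map (D.map φ)).map ((Over.map (D.map χ)).map f.unop) ≫ a)
          fun a b => by
            show _ ≫ m.bin a b = m.bin _ _
            exact (m.bin_nat _ a b).symm)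
      map_id := fun T => by ext a; simp
      map_comp := fun f f' => by ext a; simp }
  let Ak := (Over.pullback (D.map (χ ≫ φ))).obj A
  let α : (F ⋙ CategoryTheory.forget _).RepresentableBy Ak :=
    { homEquiv := fun {T} => stageEquiv D φ χ T
      homEquiv_comp := fun {T T'} f a => stageEquiv_comp D φ χ f a }
  letI hAk : GrpObj Ak := GrpObj.ofRepresentableBy Ak F α
  refine ⟨hAk, fun T a b => ?_⟩
  show α.homEquiv' (lift a b ≫ α.homEquiv'.symm (α.homEquiv' (fst Ak Ak) * α.homEquiv' (snd Ak Ak))) = _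
  rw [α.homEquiv'_comp, Equiv.apply_symm_apply, map_mul, ← α.homEquiv'_comp, ← α.homEquiv'_comp, lift_fst, lift_snd]
  rfl

end Stage

section Data

variable {i : I} (A : Over (D.obj i)) [LocallyOfFinitePresentation A.hom] [QuasiCompact A.hom]
  [QuasiSeparated A.hom] (G : Over c.pt) [GrpObj G] (g : G.left ⟶ A.left)
  (hg : IsPullback g G.hom A.hom (c.π.app i))

include hc hg

/-- **A group scheme of finite presentation over a limit descends to a stage.** -/
theorem exists_stage :
    ∃ (k : I) (ψ : k ⟶ i) (_ : GrpObj ((Over.pullback (D.map ψ)).obj A))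
      (e : G ≅ Red.bc (c.π.app k) ((Over.pullback (D.map ψ)).obj A)), IsMonHom e.hom := by
  obtain ⟨j, φ, m, v, o, k, χ, H1, H2, H3, hbin⟩ := exists_ops D c hc A G g hg
  obtain ⟨hAk, hstage⟩ := exists_grpObj D φ χ m v o H1 H2 H3
  let ψ : k ⟶ i := χ ≫ φ
  let Ak := (Over.pullback (D.map ψ)).obj A
  letI : GrpObj Ak := hAk
  let πk := c.π.app k
  have hwk : g ≫ A.hom = (G.hom ≫ πk) ≫ D.map ψ := by
    rw [hg.w, Category.assoc, c.w ψ]
  let gk : G.left ⟶ Ak.left := pullback.lift g (G.hom ≫ πk) hwk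
  have hgk : IsPullback gk G.hom Ak.hom πk := by
    refine IsPullback.of_right (t := IsPullback.of_hasPullback A.hom (D.map ψ))
      (h₁₂ := pullback.fst A.hom (D.map ψ)) ?_ (pullback.lift_snd _ _ _)
    rw [show gk ≫ pullback.fst A.hom (D.map ψ) = g from pullback.lift_fst _ _ _, c.w ψ]
    exact hg
  let e : G ≅ Red.bc πk Ak := Over.isoMk hgk.isoPullback (hgk.isoPullback_hom_snd)
  refine ⟨k, ψ, hAk, e, ?_⟩
  let adjk := Over.mapPullbackAdj πk
  have key : ∀ {T : Over c.pt} (u v : (Over.map πk).obj T ⟶ Ak),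
      adjk.homEquiv T Ak (u * v) = adjk.homEquiv T Ak u * adjk.homEquiv T Ak v := by
    intro T u v
    simp only [Adjunction.homEquiv_unit]
    rw [Functor.map_mul, MonObj.comp_mul]
  let κ : ∀ {T : Over c.pt}, (T ⟶ G) → ((Over.map πk).obj T ⟶ Ak) :=
    fun {T} a => (adjk.homEquiv T Ak).symm (a ≫ e.hom)
  have hκ : ∀ {T : Over c.pt} (a : T ⟶ G), (κ a).left = a.left ≫ gk := by
    intro T a
    simp [κ, adjk, Over.mapPullbackAdj, e]
  have hκmul : ∀ {T : Over c.pt} (a b : T ⟶ G), κ (a * b) = κ a * κ b := by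
    intro T a b
    apply (stageEquiv D φ χ _).injective
    rw [hstage]
    let T' := (Over.map (D.map χ)).obj ((Over.map πk).obj T)
    let ε : T' ⟶ (Over.map (c.π.app j)).obj T := Over.homMk (𝟙 T.left) (by simp [T', πk])
    let R := reEquiv (c.w φ) T A
    let Φ := modelEquiv D c A G g hg
    have hP : ∀ x : T ⟶ G, stageEquiv D φ χ _ (κ x) = (Over.map (D.map φ)).map ε ≫ R.symm (Φ T x) := by
      intro x
      ext1
      simp only [stageEquiv_left, hκ, Over.comp_left, Over.map_map_left, R, reEquiv_symm_left, Φ, modelEquiv,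
        Equiv.coe_fn_mk, Over.homMk_left, Category.assoc, ε]
      rw [show gk ≫ pullback.fst A.hom (D.map (χ ≫ φ)) = g from pullback.lift_fst _ _ _]
      exact (Category.id_comp _).symm
    rw [hP, hP, hP, m.bin_nat]
    congr 1
    apply R.injective
    rw [hbin, Equiv.apply_symm_apply, Equiv.apply_symm_apply, Equiv.apply_symm_apply,
      Equiv.symm_apply_apply, Equiv.symm_apply_apply]
  have hmul : ∀ {T : Over c.pt} (a b : T ⟶ G), (a * b) ≫ e.hom = (a ≫ e.hom) * (b ≫ e.hom) := by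
    intro T a b
    have h' := congrArg (adjk.homEquiv T Ak) (hκmul a b)
    rw [key] at h'
    simpa [κ] using h'
  have hone' : η[G] ≫ e.hom = η[Red.bc πk Ak] := by
    have h' := hmul (1 : 𝟙_ (Over c.pt) ⟶ G) 1
    rw [_root_.mul_one, right_eq_mul] at h'
    rwa [Hom.one_def, Hom.one_def, toUnit_unit, Category.id_comp, Category.id_comp] at h'
  refine ⟨hone', ?_⟩
  have h' := hmul (fst G G) (snd G G)
  rw [← MonObj.mul_eq_mul] at h'
  rw [h']
  simp [Hom.mul_def]
  congr 1

end Data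

end Groth.Agent.LimGrp
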