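import Groth.Agent.LimGrp.Hom
import Groth.Prelude.Def_AlgGrp
import Groth.Agent.LimDesc.Descend

/-!
# Monomorphisms, normal and central homomorphisms of group schemes along limits
-/

set_option autoImplicit false
set_option linter.style.haveILetI false
set_option backward.isDefEq.respectTransparency false
universe u

open CategoryTheory Limits MonoidalCategory CartesianMonoidalCategory MonObj GrpObj AlgebraicGeometry
open scoped CategoryTheory.Obj

noncomputable section

namespace Groth.Agent.LimGrp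

section Points

variable {S S' S'' : Scheme.{u}} {G H : Over S} [GrpObj G] [GrpObj H] (u : H ⟶ G)

/-- The kernel of `u` has no points over `S'` except the unit. -/
def MonoAt (h : S' ⟶ S) : Prop :=
  ∀ (T : Over S') (x : (Over.map h).obj T ⟶ H), x ≫ u = 1 → x = 1

/-- Conjugates of points of `H` by points of `G` are points of `H`, over `S'`. -/
def NormalAt (h : S' ⟶ S) : Prop :=
  ∀ (T : Over S') (g : (Over.map h).obj T ⟶ G) (n : (Over.map h).obj T ⟶ H),
    ∃ n' : (Over.map h).obj T ⟶ H, g * (n ≫ u) * g⁻¹ = n' ≫ u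

/-- Points of `H` commute with points of `G`, over `S'`. -/
def CentralAt (h : S' ⟶ S) : Prop :=
  ∀ (T : Over S') (g : (Over.map h).obj T ⟶ G) (n : (Over.map h).obj T ⟶ H),
    g * (n ≫ u) = (n ≫ u) * g

/-- Points over a composite, as a group isomorphism. -/
def reMulEquiv {f : S'' ⟶ S'} {g : S' ⟶ S} {h : S'' ⟶ S} (e : f ≫ g = h) (T : Over S'') (A : Over S) [GrpObj A] :
    ((Over.map g).obj ((Over.map f).obj T) ⟶ A) ≃* ((Over.map h).obj T ⟶ A) :=
  { reEquiv e T A with map_mul' := reEquiv_mul e T A }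

theorem reMulEquiv_comp {f : S'' ⟶ S'} {g : S' ⟶ S} {h : S'' ⟶ S} (e : f ≫ g = h) (T : Over S'') {A B : Over S}
    [GrpObj A] [GrpObj B] (v : A ⟶ B) (x : (Over.map g).obj ((Over.map f).obj T) ⟶ A) :
    reMulEquiv e T B (x ≫ v) = reMulEquiv e T A x ≫ v := by
  ext1; rfl

/-- Points of a base change, as a group isomorphism. -/
def bcMulEquiv (h : S' ⟶ S) (T : Over S') (A : Over S) [GrpObj A] :
    ((Over.map h).obj T ⟶ A) ≃* (T ⟶ Red.bc h A) :=
  { (Over.mapPullbackAdj h).homEquiv T A with map_mul' := homEquiv_mul h T A }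

theorem bcMulEquiv_comp (h : S' ⟶ S) (T : Over S') {A B : Over S} [GrpObj A] [GrpObj B] (v : A ⟶ B)
    (x : (Over.map h).obj T ⟶ A) :
    bcMulEquiv h T B (x ≫ v) = bcMulEquiv h T A x ≫ (Over.pullback h).map v :=
  (Over.mapPullbackAdj h).homEquiv_naturality_right x v

variable {u}

theorem MonoAt.mono [IsMonHom u] {h : S' ⟶ S} (hm : MonoAt u h) : Mono ((Over.pullback h).map u) := by
  refine ⟨fun {T} a b hab => ?_⟩
  obtain ⟨a, rfl⟩ := (bcMulEquiv h T H).surjective a
  obtain ⟨b, rfl⟩ := (bcMulEquiv h T H).surjective b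
  rw [← bcMulEquiv_comp, ← bcMulEquiv_comp] at hab
  have h1 := hm T (a * b⁻¹) (by rw [MonObj.mul_comp, GrpObj.inv_comp, (bcMulEquiv h T G).injective hab, mul_inv_cancel])
  rw [mul_inv_eq_one] at h1
  rw [h1]

theorem monoAt_iff [IsMonHom u] {h : S' ⟶ S} : MonoAt u h ↔ Mono ((Over.pullback h).map u) := by
  refine ⟨MonoAt.mono, fun hm T x hx => ?_⟩
  apply (bcMulEquiv h T H).injective
  rw [map_one, ← cancel_mono ((Over.pullback h).map u), ← bcMulEquiv_comp, hx, map_one, MonObj.one_comp]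

theorem normalAt_iff {h : S' ⟶ S} : NormalAt u h ↔ AlgGrp.IsNormalHom ((Over.pullback h).map u) := by
  constructor
  · intro hn T g n
    obtain ⟨g, rfl⟩ := (bcMulEquiv h T G).surjective g
    obtain ⟨n, rfl⟩ := (bcMulEquiv h T H).surjective n
    obtain ⟨n', hn'⟩ := hn T g n
    refine ⟨bcMulEquiv h T H n', ?_⟩
    erw [← bcMulEquiv_comp, ← bcMulEquiv_comp, ← map_inv, ← map_mul, ← map_mul, hn']
  · intro hn T g n
    obtain ⟨n', hn'⟩ := hn T (bcMulEquiv h T G g) (bcMulEquiv h T H n)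
    obtain ⟨n', rfl⟩ := (bcMulEquiv h T H).surjective n'
    refine ⟨n', (bcMulEquiv h T G).injective ?_⟩
    rw [map_mul, map_mul, map_inv, bcMulEquiv_comp, bcMulEquiv_comp]
    exact hn'

theorem centralAt_iff {h : S' ⟶ S} : CentralAt u h ↔
    ∀ (T : Over S') (g : T ⟶ Red.bc h G) (n : T ⟶ Red.bc h H),
      g * (n ≫ (Over.pullback h).map u) = (n ≫ (Over.pullback h).map u) * g := by
  constructor
  · intro hc T g n
    obtain ⟨g, rfl⟩ := (bcMulEquiv h T G).surjective g
    obtain ⟨n, rfl⟩ := (bcMulEquiv h T H).surjective n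
    rw [← bcMulEquiv_comp, ← map_mul, ← map_mul, hc T g n]
  · intro hc T g n
    apply (bcMulEquiv h T G).injective
    rw [map_mul, map_mul, bcMulEquiv_comp]
    exact hc T _ _

theorem MonoAt.comp {f : S'' ⟶ S'} {g : S' ⟶ S} {h : S'' ⟶ S} (hm : MonoAt u g) (e : f ≫ g = h) :
    MonoAt u h := by
  intro T x hx
  obtain ⟨x, rfl⟩ := (reMulEquiv e T H).surjective x
  rw [← reMulEquiv_comp, map_eq_one_iff _ (reMulEquiv e T G).injective] at hx
  rw [hm _ x hx, map_one]

theorem NormalAt.comp {f : S'' ⟶ S'} {g : S' ⟶ S} {h : S'' ⟶ S} (hn : NormalAt u g) (e : f ≫ g = h) :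
    NormalAt u h := by
  intro T a n
  obtain ⟨a, rfl⟩ := (reMulEquiv e T G).surjective a
  obtain ⟨n, rfl⟩ := (reMulEquiv e T H).surjective n
  obtain ⟨n', hn'⟩ := hn _ a n
  exact ⟨reMulEquiv e T H n', by rw [← reMulEquiv_comp, ← reMulEquiv_comp, ← map_inv, ← map_mul, ← map_mul, hn']⟩

theorem CentralAt.comp {f : S'' ⟶ S'} {g : S' ⟶ S} {h : S'' ⟶ S} (hc : CentralAt u g) (e : f ≫ g = h) :
    CentralAt u h := by
  intro T a n
  obtain ⟨a, rfl⟩ := (reMulEquiv e T G).surjective a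
  obtain ⟨n, rfl⟩ := (reMulEquiv e T H).surjective n
  rw [← reMulEquiv_comp, ← map_mul, ← map_mul, hc _ a n]

end Points

section Descent

variable {I : Type u} [SmallCategory I] [IsCofiltered I] (D : I ⥤ Scheme.{u}) (c : Limits.Cone D)
  (hc : Limits.IsLimit c) [∀ (i i' : I) (f : i ⟶ i'), IsAffineHom (D.map f)]
  [∀ i, CompactSpace (D.obj i)] [∀ i, QuasiSeparatedSpace (D.obj i)]
  {j : I} {G H : Over (D.obj j)} [GrpObj G] [GrpObj H]
  [LocallyOfFinitePresentation G.hom] [QuasiCompact G.hom] [QuasiSeparated G.hom]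
  [LocallyOfFinitePresentation H.hom] [QuasiCompact H.hom] [QuasiSeparated H.hom]
  (u : H ⟶ G)

include hc

/-- **Monomorphisms descend.** -/
theorem exists_monoAt (hm : MonoAt u (c.π.app j)) : ∃ (i : I) (f : i ⟶ j), MonoAt u (D.map f) := by
  let K : Over (D.obj j) := Over.mk (pullback.fst u.left η[G].left ≫ H.hom)
  let k : K ⟶ H := Over.homMk (pullback.fst u.left η[G].left) rfl
  have hη : η[G].left ≫ G.hom = 𝟙 (D.obj j) := Over.w η[G]
  haveI : LocallyOfFinitePresentation (η[G].left ≫ G.hom) := by rw [Over.w η[G]]; infer_instance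
  haveI : QuasiCompact (η[G].left ≫ G.hom) := by rw [Over.w η[G]]; infer_instance
  haveI : QuasiSeparated (η[G].left ≫ G.hom) := by rw [Over.w η[G]]; infer_instance
  haveI : LocallyOfFinitePresentation η[G].left := LimDesc.lfp_of_comp η[G].left G.hom
  haveI : QuasiCompact η[G].left := QuasiCompact.of_comp η[G].left G.hom
  haveI : QuasiSeparated η[G].left := QuasiSeparated.of_comp η[G].left G.hom
  haveI : LocallyOfFinitePresentation K.hom :=
    inferInstanceAs (LocallyOfFinitePresentation (pullback.fst u.left η[G].left ≫ H.hom))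
  haveI : QuasiCompact K.hom := inferInstanceAs (QuasiCompact (pullback.fst u.left η[G].left ≫ H.hom))
  haveI : QuasiSeparated K.hom := inferInstanceAs (QuasiSeparated (pullback.fst u.left η[G].left ≫ H.hom))
  have hk : k ≫ u = 1 := by
    rw [Hom.one_def]
    ext1
    rw [Over.comp_left, Over.comp_left, Over.toUnit_left]
    show pullback.fst u.left η[G].left ≫ u.left = K.hom ≫ η[G].left
    rw [pullback.condition]
    congr 1
    show pullback.snd u.left η[G].left = pullback.fst u.left η[G].left ≫ H.hom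
    rw [← Over.w u, pullback.condition_assoc]
    erw [hη]
    exact (Category.comp_id _).symm
  let w₁ : Op (D.map (𝟙 j)) K H := ⟨fun _ x => x ≫ k, fun _ _ => Category.assoc _ _ _⟩
  let w₂ : Op (D.map (𝟙 j)) K H := ⟨fun _ _ => 1, fun _ _ => (MonObj.comp_one _).symm⟩
  obtain ⟨i, f, hf⟩ := exists_op_eq D c hc K H (𝟙 j) w₁ w₂ (by
    simp only [Op.re, Op.mk.injEq]
    funext T x
    obtain ⟨x, rfl⟩ := (reEquiv (c.w (𝟙 j)) T K).surjective x
    simp only [Equiv.symm_apply_apply, w₁, w₂]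
    show reMulEquiv (c.w (𝟙 j)) T H (x ≫ k) = reMulEquiv (c.w (𝟙 j)) T H 1
    rw [map_one]
    refine hm T _ ?_
    rw [← reMulEquiv_comp, Category.assoc, hk, MonObj.comp_one, map_one])
  refine ⟨i, f, fun T x hx => ?_⟩
  have e : D.map f ≫ D.map (𝟙 j) = D.map f := by rw [D.map_id, Category.comp_id]
  obtain ⟨x, rfl⟩ := (reMulEquiv e T H).surjective x
  rw [← reMulEquiv_comp, map_eq_one_iff _ (reMulEquiv e T G).injective] at hx
  rw [Hom.one_def] at hx
  have hx' : x.left ≫ u.left =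
      ((Over.map (D.map (𝟙 j))).obj ((Over.map (D.map f)).obj T)).hom ≫ η[G].left := by
    have h2 := congrArg (fun v : _ ⟶ G => v.left) hx
    simp only [Over.comp_left, Over.toUnit_left] at h2
    exact h2
  let z : (Over.map (D.map (𝟙 j))).obj ((Over.map (D.map f)).obj T) ⟶ K :=
    Over.homMk (pullback.lift x.left ((Over.map (D.map (𝟙 j))).obj ((Over.map (D.map f)).obj T)).hom hx')
      ((pullback.lift_fst_assoc _ _ _ _).trans (Over.w x))
  have hz : z ≫ k = x := by ext1; exact pullback.lift_fst _ _ _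
  rw [← hz, show z ≫ k = 1 from hf T z, map_one]

/-- **Centrality descends.** -/
theorem exists_centralAt (hcen : CentralAt u (c.π.app j)) : ∃ (i : I) (f : i ⟶ j), CentralAt u (D.map f) := by
  let w₁ : Op (D.map (𝟙 j)) (G ⊗ H) G :=
    ⟨fun _ x => (x ≫ fst _ _) * ((x ≫ snd _ _) ≫ u), fun _ _ => by simp only [Category.assoc, ← MonObj.comp_mul]⟩
  let w₂ : Op (D.map (𝟙 j)) (G ⊗ H) G :=
    ⟨fun _ x => ((x ≫ snd _ _) ≫ u) * (x ≫ fst _ _), fun _ _ => by simp only [Category.assoc, ← MonObj.comp_mul]⟩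
  obtain ⟨i, f, hf⟩ := exists_op_eq D c hc (G ⊗ H) G (𝟙 j) w₁ w₂ (by
    simp only [Op.re, Op.mk.injEq]
    funext T x
    obtain ⟨x, rfl⟩ := (reEquiv (c.w (𝟙 j)) T (G ⊗ H)).surjective x
    simp only [Equiv.symm_apply_apply, w₁, w₂]
    have h1 : reMulEquiv (c.w (𝟙 j)) T G ((x ≫ fst G H) * ((x ≫ snd G H) ≫ u)) =
        reMulEquiv (c.w (𝟙 j)) T G (((x ≫ snd G H) ≫ u) * (x ≫ fst G H)) := by
      have h2 := hcen T (reMulEquiv (c.w (𝟙 j)) T G (x ≫ fst G H)) (reMulEquiv (c.w (𝟙 j)) T H (x ≫ snd G H))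
      rw [map_mul, map_mul, reMulEquiv_comp]
      exact h2
    exact h1)
  refine ⟨i, f, fun T g n => ?_⟩
  have e : D.map f ≫ D.map (𝟙 j) = D.map f := by rw [D.map_id, Category.comp_id]
  obtain ⟨g, rfl⟩ := (reMulEquiv e T G).surjective g
  obtain ⟨n, rfl⟩ := (reMulEquiv e T H).surjective n
  have h1 := hf T (lift g n)
  simp only [w₁, w₂, lift_fst, lift_snd] at h1
  rw [← reMulEquiv_comp, ← map_mul, ← map_mul, h1]

variable [IsMonHom u]

/-- **Normality descends.** -/
theorem exists_normalAt (hm : MonoAt u (c.π.app j)) (hn : NormalAt u (c.π.app j)) :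
    ∃ (i : I) (f : i ⟶ j), NormalAt u (D.map f) := by
  let π := c.π.app j
  have huniq : ∀ (T : Over c.pt) (a b : (Over.map π).obj T ⟶ H), a ≫ u = b ≫ u → a = b := by
    intro T a b hab
    have h1 := hm T (a * b⁻¹) (by rw [MonObj.mul_comp, GrpObj.inv_comp, hab, mul_inv_cancel])
    rwa [mul_inv_eq_one] at h1
  let w : Op π (G ⊗ H) H :=
    { app := fun T x => (hn T (x ≫ fst _ _) (x ≫ snd _ _)).choose
      nat := fun {T T'} a x => huniq _ _ _ (by
        refine (hn T' (((Over.map π).map a ≫ x) ≫ fst G H) (((Over.map π).map a ≫ x) ≫ snd G H)).choose_spec.symm.trans ?_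
        refine Eq.trans ?_ (Category.assoc _ _ u).symm
        refine Eq.trans ?_ (congrArg ((Over.map π).map a ≫ ·) (hn T (x ≫ fst G H) (x ≫ snd G H)).choose_spec)
        simp only [Category.assoc, ← MonObj.comp_mul, ← GrpObj.comp_inv]) }
  obtain ⟨i', φ, op, hop⟩ := exists_op D c hc (G ⊗ H) H w
  let w₁ : Op (D.map φ) (G ⊗ H) G :=
    ⟨fun _ x => (x ≫ fst _ _) * ((x ≫ snd _ _) ≫ u) * (x ≫ fst _ _)⁻¹,
      fun _ _ => by simp only [Category.assoc, ← MonObj.comp_mul, ← GrpObj.comp_inv]⟩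
  let w₂ : Op (D.map φ) (G ⊗ H) G :=
    ⟨fun T x => op.app T x ≫ u, fun _ _ => by rw [op.nat, Category.assoc]⟩
  obtain ⟨i, χ, hχ⟩ := exists_op_eq D c hc (G ⊗ H) G φ w₁ w₂ (by
    simp only [Op.re, Op.mk.injEq]
    funext T x
    obtain ⟨x, rfl⟩ := (reEquiv (c.w φ) T (G ⊗ H)).surjective x
    simp only [Equiv.symm_apply_apply, w₁, w₂]
    have h1 := congrArg (fun v => v.app T (reEquiv (c.w φ) T (G ⊗ H) x)) hop
    simp only [Op.re, Equiv.symm_apply_apply] at h1
    have h2 : reMulEquiv (c.w φ) T G ((x ≫ fst G H) * ((x ≫ snd G H) ≫ u) * (x ≫ fst G H)⁻¹) =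
        reMulEquiv (c.w φ) T G (op.app _ x ≫ u) := by
      have h3 := (hn T ((reEquiv (c.w φ) T (G ⊗ H) x) ≫ fst G H) ((reEquiv (c.w φ) T (G ⊗ H) x) ≫ snd G H)).choose_spec
      rw [map_mul, map_mul, map_inv, reMulEquiv_comp, reMulEquiv_comp]
      refine h3.trans ?_
      exact congrArg (· ≫ u) h1.symm
    exact h2)
  refine ⟨i, χ ≫ φ, fun T g n => ?_⟩
  have e : D.map χ ≫ D.map φ = D.map (χ ≫ φ) := (D.map_comp _ _).symm
  obtain ⟨g, rfl⟩ := (reMulEquiv e T G).surjective g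
  obtain ⟨n, rfl⟩ := (reMulEquiv e T H).surjective n
  refine ⟨reMulEquiv e T H (op.app _ (lift g n)), ?_⟩
  have h1 := hχ T (lift g n)
  simp only [w₁, w₂, lift_fst, lift_snd] at h1
  rw [← reMulEquiv_comp, ← reMulEquiv_comp, ← map_inv, ← map_mul, ← map_mul, h1]

end Descent

end Groth.Agent.LimGrp
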