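import Groth.Agent.S9218
import Groth.Agent.S9219
import Mathlib.CategoryTheory.Monoidal.Cartesian.Grp
import Mathlib.CategoryTheory.Comma.Over.Pullback

/-!
# Natural operations on points of schemes of finite presentation over the stages of a limit
-/

set_option autoImplicit false
set_option backward.isDefEq.respectTransparency false
universe u

open CategoryTheory Limits AlgebraicGeometry

noncomputable section

namespace Groth.Agent.LimGrp

section Re

variable {S S' S'' : Scheme.{u}} {f : S'' ⟶ S'} {g : S' ⟶ S} {h : S'' ⟶ S}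

/-- Points over a composite. -/
def reEquiv (e : f ≫ g = h) (T : Over S'') (A : Over S) :
    ((Over.map g).obj ((Over.map f).obj T) ⟶ A) ≃ ((Over.map h).obj T ⟶ A) where
  toFun x := Over.homMk x.left (by subst e; simpa using Over.w x)
  invFun x := Over.homMk x.left (by subst e; simpa using Over.w x)
  left_inv _ := rfl
  right_inv _ := rfl

@[simp] theorem reEquiv_left (e : f ≫ g = h) (T : Over S'') (A : Over S)
    (x : (Over.map g).obj ((Over.map f).obj T) ⟶ A) : (reEquiv e T A x).left = x.left := rfl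

@[simp] theorem reEquiv_symm_left (e : f ≫ g = h) (T : Over S'') (A : Over S)
    (x : (Over.map h).obj T ⟶ A) : ((reEquiv e T A).symm x).left = x.left := rfl

end Re

/-- The point of the pullback given by a point. -/
def lp {S S' : Scheme.{u}} (h : S' ⟶ S) {X : Over S} {T : Over S'} (x : (Over.map h).obj T ⟶ X) :
    T.left ⟶ pullback X.hom h :=
  pullback.lift x.left T.hom (Over.w x)

@[reassoc (attr := simp)] theorem lp_fst {S S' : Scheme.{u}} {h : S' ⟶ S} {X : Over S} {T : Over S'}
    (x : (Over.map h).obj T ⟶ X) : lp h x ≫ pullback.fst X.hom h = (x.left : T.left ⟶ X.left) :=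
  pullback.lift_fst _ _ _

@[reassoc (attr := simp)] theorem lp_snd {S S' : Scheme.{u}} {h : S' ⟶ S} {X : Over S} {T : Over S'}
    (x : (Over.map h).obj T ⟶ X) : lp h x ≫ pullback.snd X.hom h = T.hom :=
  pullback.lift_snd _ _ _

/-- A natural operation from the points of `X` to the points of `A` over `S'`. -/
structure Op {S S' : Scheme.{u}} (h : S' ⟶ S) (X A : Over S) where
  app : ∀ T : Over S', ((Over.map h).obj T ⟶ X) → ((Over.map h).obj T ⟶ A)
  nat : ∀ {T T' : Over S'} (a : T' ⟶ T) (x : (Over.map h).obj T ⟶ X),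
    app T' ((Over.map h).map a ≫ x) = (Over.map h).map a ≫ app T x

/-- Operations restrict along the base. -/
def Op.re {S S' S'' : Scheme.{u}} {f : S'' ⟶ S'} {g : S' ⟶ S} {h : S'' ⟶ S} (e : f ≫ g = h) {X A : Over S}
    (w : Op g X A) : Op h X A where
  app T x := reEquiv e T A (w.app ((Over.map f).obj T) ((reEquiv e T X).symm x))
  nat {T T'} a x := by
    have h2 : (reEquiv e T' X).symm ((Over.map h).map a ≫ x) =
        (Over.map g).map ((Over.map f).map a) ≫ (reEquiv e T X).symm x := by ext1; simp
    ext1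
    rw [reEquiv_left, h2, w.nat]
    simp

variable {I : Type u} [SmallCategory I] [IsCofiltered I] (D : I ⥤ Scheme.{u}) (c : Limits.Cone D)
  (hc : Limits.IsLimit c) [∀ (i i' : I) (f : i ⟶ i'), IsAffineHom (D.map f)]
  [∀ i, CompactSpace (D.obj i)] [∀ i, QuasiSeparatedSpace (D.obj i)]

variable {i : I} (X A : Over (D.obj i)) [LocallyOfFinitePresentation X.hom] [QuasiCompact X.hom]
  [QuasiSeparated X.hom] [LocallyOfFinitePresentation A.hom] [QuasiCompact A.hom] [QuasiSeparated A.hom]

include hc

/-- **Operations descend.** -/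
theorem exists_op (w : Op (c.π.app i) X A) :
    ∃ (j : I) (φ : j ⟶ i) (op : Op (D.map φ) X A), Op.re (c.w φ) op = w := by
  haveI : CompactSpace X.left := QuasiCompact.compactSpace_of_compactSpace X.hom
  haveI : QuasiSeparatedSpace X.left := quasiSeparatedSpace_of_quasiSeparated X.hom
  haveI : CompactSpace A.left := QuasiCompact.compactSpace_of_compactSpace A.hom
  haveI : QuasiSeparatedSpace A.left := quasiSeparatedSpace_of_quasiSeparated A.hom
  let π := c.π.app i
  let XU : Over c.pt := Over.mk (pullback.snd X.hom π)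
  let x₀ : (Over.map π).obj XU ⟶ X := Over.homMk (pullback.fst X.hom π) pullback.condition
  let u := (w.app XU x₀).left
  have hu : u ≫ A.hom = pullback.snd X.hom π ≫ π := Over.w (w.app XU x₀)
  obtain ⟨j, φ, fj, sX, sY, h1, h2, h3, h4, -, h6⟩ := S9218.result D c hc i X.hom A.hom
    (pullback.fst X.hom π) (pullback.snd X.hom π) (IsPullback.of_hasPullback _ _)
    (pullback.fst A.hom π) (pullback.snd A.hom π) (IsPullback.of_hasPullback _ _)
    (pullback.lift u (pullback.snd X.hom π) hu) (pullback.lift_snd _ _ _)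
  have hfj : fj ≫ pullback.fst A.hom (D.map φ) ≫ A.hom = pullback.snd X.hom (D.map φ) ≫ D.map φ := by
    rw [pullback.condition, reassoc_of% h1]
  let op : ∀ T : Over (D.obj j), ((Over.map (D.map φ)).obj T ⟶ X) → ((Over.map (D.map φ)).obj T ⟶ A) :=
    fun T x => Over.homMk (lp (D.map φ) x ≫ fj ≫ pullback.fst A.hom (D.map φ))
      (((Category.assoc _ _ _).trans (congrArg (lp (D.map φ) x ≫ ·) ((Category.assoc _ _ _).trans hfj))).trans
        (lp_snd_assoc (h := D.map φ) x (D.map φ)))
  refine ⟨j, φ, ⟨op, fun {T T'} a x => ?_⟩, ?_⟩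
  · ext1
    simp only [op, Over.homMk_left, Over.comp_left, Over.map_map_left, ← Category.assoc]
    congr 2
    apply pullback.hom_ext <;> simp
  · obtain ⟨wa, wn⟩ := w
    simp only [Op.re, Op.mk.injEq]
    funext T x
    let a : T ⟶ XU := Over.homMk (lp π x) (lp_snd (h := π) x)
    have hx : x = (Over.map π).map a ≫ x₀ := by
      ext1; exact (lp_fst (h := π) x).symm
    conv_rhs => rw [hx, wn]
    ext1
    simp only [op, reEquiv_left, Over.homMk_left, reEquiv_symm_left, Over.comp_left, Over.map_map_left]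
    have e1 : lp (D.map φ) ((reEquiv (c.w φ) T X).symm x) = lp π x ≫ sX := by
      apply pullback.hom_ext
      · rw [lp_fst, Category.assoc, h2, lp_fst, reEquiv_symm_left]
      · rw [lp_snd, Category.assoc, h3, lp_snd_assoc]; rfl
    rw [e1, Category.assoc, reassoc_of% h6]
    show lp π x ≫ pullback.lift u _ hu ≫ sY ≫ pullback.fst A.hom (D.map φ) = _
    rw [h4, pullback.lift_fst]
    rfl

omit [LocallyOfFinitePresentation A.hom] [QuasiCompact A.hom] [QuasiSeparated A.hom] in
/-- **Equalities of operations descend.** -/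
theorem exists_op_eq [LocallyOfFinitePresentation A.hom] [QuasiCompact A.hom] [QuasiSeparated A.hom]
    {j : I} (φ : j ⟶ i) (w w' : Op (D.map φ) X A) (h : Op.re (c.w φ) w = Op.re (c.w φ) w') :
    ∃ (k : I) (χ : k ⟶ j), ∀ (T : Over (D.obj k)) (x : (Over.map (D.map φ)).obj ((Over.map (D.map χ)).obj T) ⟶ X),
      w.app _ x = w'.app _ x := by
  let Xj : Over (D.obj j) := Over.mk (pullback.snd X.hom (D.map φ))
  let x₀ : (Over.map (D.map φ)).obj Xj ⟶ X := Over.homMk (pullback.fst X.hom (D.map φ)) pullback.condition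
  let Aj := pullback.snd A.hom (D.map φ)
  let Xp := pullback.snd X.hom (D.map φ)
  haveI : CompactSpace (pullback X.hom (D.map φ) : Scheme) := QuasiCompact.compactSpace_of_compactSpace Xp
  haveI : QuasiSeparatedSpace (pullback X.hom (D.map φ) : Scheme) := quasiSeparatedSpace_of_quasiSeparated Xp
  haveI : CompactSpace (pullback A.hom (D.map φ) : Scheme) := QuasiCompact.compactSpace_of_compactSpace Aj
  haveI : QuasiSeparatedSpace (pullback A.hom (D.map φ) : Scheme) := quasiSeparatedSpace_of_quasiSeparated Aj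
  let fi : Xj.left ⟶ pullback A.hom (D.map φ) := pullback.lift (w.app Xj x₀).left Xp (Over.w (w.app Xj x₀))
  let gi : Xj.left ⟶ pullback A.hom (D.map φ) := pullback.lift (w'.app Xj x₀).left Xp (Over.w (w'.app Xj x₀))
  let TU : Over c.pt := Over.mk (pullback.snd Xp (c.π.app j))
  let b : (Over.map (c.π.app j)).obj TU ⟶ Xj := Over.homMk (pullback.fst Xp (c.π.app j)) pullback.condition
  have heq : pullback.fst Xp (c.π.app j) ≫ fi = pullback.fst Xp (c.π.app j) ≫ gi := by
    have h1 := congrArg (fun v => (v.app TU (reEquiv (c.w φ) TU X ((Over.map (D.map φ)).map b ≫ x₀))).left) h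
    simp only [Op.re, reEquiv_left, Equiv.symm_apply_apply, w.nat, w'.nat, Over.comp_left, Over.map_map_left] at h1
    apply pullback.hom_ext
    · simpa [fi, gi, b] using h1
    · simp [fi, gi]
  obtain ⟨k, χ, hk⟩ := S9219.result D c hc j Xp Aj (pullback.fst Xp (c.π.app j)) (pullback.snd Xp (c.π.app j))
    (IsPullback.of_hasPullback _ _) fi gi (pullback.lift_snd _ _ _) (pullback.lift_snd _ _ _) heq
  refine ⟨k, χ, fun T x => ?_⟩
  let a : (Over.map (D.map χ)).obj T ⟶ Xj :=
    Over.homMk (lp (D.map φ) x) (lp_snd (h := D.map φ) x)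
  have hx : x = (Over.map (D.map φ)).map a ≫ x₀ := by
    ext1; exact (pullback.lift_fst _ _ _).symm
  rw [hx, w.nat, w'.nat]
  ext1
  simp only [Over.comp_left, Over.map_map_left]
  let b' : T.left ⟶ pullback Xp (D.map χ) := pullback.lift a.left T.hom (Over.w a)
  have e := congrArg (fun v => b' ≫ v ≫ pullback.fst A.hom (D.map φ)) hk
  simpa [b', fi, gi] using e

end Groth.Agent.LimGrp
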