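import Groth.Agent.LimGrp.Quot
import Groth.Agent.MTBridge.Basic
import Groth.Agent.W7Hull.NearLimit
import Groth.Agent.LimDesc.DescendClosed
import Groth.Agent.S4815
import Groth.Agent.S18878
import Groth.Agent.MTBridge.Centralizer

/-!
# Closed subgroups of the generic fibre spread out
-/

set_option autoImplicit false
set_option linter.style.haveILetI false
set_option backward.isDefEq.respectTransparency false
universe u

open CategoryTheory Limits MonoidalCategory CartesianMonoidalCategory MonObj GrpObj AlgebraicGeometry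
open scoped CategoryTheory.Obj

noncomputable section

namespace Groth.Agent.LimGrp

/-- Iterated base change is a homomorphism. -/
theorem isMonHom_compIso {S S' S'' : Scheme.{u}} {f : S'' ⟶ S'} {g : S' ⟶ S} {h : S'' ⟶ S} (e : f ≫ g = h)
    (G : Over S) [GrpObj G] : IsMonHom (M := Red.bc f (Red.bc g G)) (N := Red.bc h G) ((compIso e).hom.app G) := by
  subst e
  have h1 : (compIso (f := f) (g := g) rfl).hom.app G = (MTBridge.bcComp g f G).inv.hom.hom := by
    simp [compIso, MTBridge.bcComp]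
  rw [h1]
  exact (MTBridge.bcComp g f G).inv.hom.isMonHom_hom

open W7Hull

theorem exists_closedSubgroup_near (X : Scheme.{u}) (y : X) (G : Over X) [GrpObj G]
    [IsAffineHom G.hom] [LocallyOfFinitePresentation G.hom]
    (Hη : Over (Spec (X.presheaf.stalk y))) [GrpObj Hη] (i : Hη ⟶ Red.bc (X.fromSpecStalk y) G)
    [IsMonHom i] [IsClosedImmersion i.left] [LocallyOfFinitePresentation i.left] :
    ∃ (U : X.Opens) (ηU : Spec (X.presheaf.stalk y) ⟶ (U : Scheme.{u})) (HU : Over (U : Scheme.{u}))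
      (_ : GrpObj HU) (j : HU ⟶ Red.bc U.ι G) (φ : Hη.left ⟶ HU.left),
      ηU ≫ U.ι = X.fromSpecStalk y ∧ IsMonHom j ∧ IsClosedImmersion j.left ∧
      IsPullback φ Hη.hom HU.hom ηU ∧
      φ ≫ j.left ≫ pullback.fst G.hom U.ι = i.left ≫ pullback.fst G.hom (X.fromSpecStalk y) := by
  let D := NearLimit.diag (𝟙 X) y
  let c₀ := NearLimit.cone (𝟙 X) y
  let p := pullback.snd (𝟙 X) (X.fromSpecStalk y)
  let c : Cone D := c₀.extend (inv p)
  have hc : IsLimit c := IsLimit.extendIso (s := c₀) (inv p) (NearLimit.isLimit (𝟙 X) y)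
  let ιV : ∀ V, D.obj V ⟶ X := fun V => ((𝟙 X) ⁻¹ᵁ V.1).ι
  have hπ : ∀ V, c.π.app V ≫ ιV V = X.fromSpecStalk y := by
    intro V
    have h0 : c₀.π.app V ≫ ((𝟙 X) ⁻¹ᵁ V.1).ι = p ≫ X.fromSpecStalk y := by
      rw [NearLimit.cone_fac, ← pullback.condition, Category.comp_id]
    show (inv p ≫ c₀.π.app V) ≫ ((𝟙 X) ⁻¹ᵁ V.1).ι = _
    rw [Category.assoc, h0, IsIso.inv_hom_id_assoc]
  have hιV : ∀ {V W} (a : V ⟶ W), D.map a ≫ ιV W = ιV V := fun {V W} a =>
    X.homOfLE_ι ((𝟙 X : X ⟶ X).preimage_mono (leOfHom a))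
  let V₀ : NearLimit.Idx y := Classical.arbitrary _
  haveI : IsAffine (D.obj V₀) := by
    haveI : IsAffine (V₀.1 : Scheme.{u}) := V₀.2.1
    exact inferInstanceAs (IsAffine (V₀.1 : Scheme.{u}))
  let G₀ := Red.bc (ιV V₀) G
  haveI : IsAffineHom G₀.hom := inferInstanceAs (IsAffineHom (pullback.snd G.hom (ιV V₀)))
  haveI : LocallyOfFinitePresentation G₀.hom :=
    inferInstanceAs (LocallyOfFinitePresentation (pullback.snd G.hom (ιV V₀)))
  let g₀ := G₀.hom
  let π := c.π.app V₀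
  let GY := Red.bc π G₀
  let α : GY ≅ Red.bc (X.fromSpecStalk y) G := (compIso (hπ V₀)).app G
  haveI : IsMonHom α.hom := isMonHom_compIso (hπ V₀) G
  haveI : IsIso α.inv.left := inferInstanceAs (IsIso ((Over.forget _).map α.inv))
  let ιZ : Hη ⟶ GY := i ≫ α.inv
  haveI : IsClosedImmersion ιZ.left := by rw [Over.comp_left]; infer_instance
  haveI : LocallyOfFinitePresentation ιZ.left := by rw [Over.comp_left]; infer_instance
  have hY : IsPullback (pullback.fst g₀ π) (pullback.snd g₀ π) g₀ π := IsPullback.of_hasPullback _ _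
  let D₁ := LimDesc.tower D g₀
  let c₁ := LimDesc.towerCone D g₀ c hY
  haveI : CompactSpace G₀.left := QuasiCompact.compactSpace_of_compactSpace g₀
  haveI : QuasiSeparatedSpace G₀.left := quasiSeparatedSpace_of_quasiSeparated g₀
  haveI : CompactSpace (D₁.obj (Over.mk (𝟙 V₀))) := LimDesc.compactSpace_stage D g₀ _
  haveI : QuasiSeparatedSpace (D₁.obj (Over.mk (𝟙 V₀))) := LimDesc.quasiSeparatedSpace_stage D g₀ _
  haveI : QuasiCompact (ιZ.left : Hη.left ⟶ c₁.pt) := inferInstanceAs (QuasiCompact ιZ.left)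
  haveI : IsImmersion (ιZ.left : Hη.left ⟶ c₁.pt) := inferInstanceAs (IsImmersion ιZ.left)
  obtain ⟨j₁, -, Zj, ιj, q, himm, hlfp, hqc, hsq⟩ := S4815.result D₁ c₁ (LimDesc.isLimitTowerCone D g₀ c hY hc)
    (Over.mk (𝟙 V₀)) (Z := Hη.left) ιZ.left
  haveI := himm; haveI := hlfp; haveI := hqc
  haveI : CompactSpace (D.obj j₁.left) := QuasiCompact.compactSpace_of_compactSpace (D.map j₁.hom)
  haveI : QuasiSeparatedSpace (D.obj j₁.left) := quasiSeparatedSpace_of_quasiSeparated (D.map j₁.hom)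
  let g₁ := LimDesc.toStage D g₀ j₁
  let ιj' : Zj ⟶ LimDesc.stage D g₀ j₁ := ιj
  haveI : IsImmersion ιj' := himm
  haveI : LocallyOfFinitePresentation ιj' := hlfp
  haveI : QuasiCompact ιj' := hqc
  haveI : IsAffineHom g₁ := MorphismProperty.pullback_snd _ _ inferInstance
  haveI : LocallyOfFinitePresentation g₁ := MorphismProperty.pullback_snd _ _ inferInstance
  have hY₁ : IsPullback (LimDesc.proj D g₀ c hY j₁) (pullback.snd g₀ π) g₁ (c.π.app j₁.left) :=
    LimDesc.isPullback_proj D g₀ c hY j₁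
  obtain ⟨V, φ, Xi, Yi, fi, gi, pY, pX, hYi, hXi, hfi⟩ :=
    LimDesc.exists_isClosedImmersion D c hc ιj' g₁ hY₁ (f := ιZ.left) (qX := q) hsq
  haveI := hfi
  haveI : LocallyOfFinitePresentation fi := MorphismProperty.of_isPullback hXi inferInstance
  let sq₁ := (hYi.paste_horiz (LimDesc.isPullback_stage D g₀ j₁)).paste_horiz (IsPullback.of_hasPullback G.hom (ιV V₀))
  have he : (D.map φ ≫ D.map j₁.hom) ≫ ιV V₀ = ιV V := by rw [← D.map_comp, hιV]
  rw [he] at sq₁
  let κ := sq₁.isoPullback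
  let GV := Red.bc (ιV V) G
  let H₀ : Over (D.obj V) := Over.mk (fi ≫ gi)
  let ι₀ : H₀ ⟶ GV := Over.homMk (fi ≫ κ.hom) (by
    show (fi ≫ κ.hom) ≫ pullback.snd G.hom (ιV V) = fi ≫ gi
    rw [Category.assoc, IsPullback.isoPullback_hom_snd])
  haveI : IsClosedImmersion ι₀.left := inferInstanceAs (IsClosedImmersion (fi ≫ κ.hom))
  haveI : LocallyOfFinitePresentation ι₀.left := inferInstanceAs (LocallyOfFinitePresentation (fi ≫ κ.hom))
  haveI : CompactSpace (D.obj V) := QuasiCompact.compactSpace_of_compactSpace (D.map φ)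
  haveI : QuasiSeparatedSpace (D.obj V) := quasiSeparatedSpace_of_quasiSeparated (D.map φ)
  haveI : IsAffineHom GV.hom := MorphismProperty.pullback_snd (P := @IsAffineHom) G.hom (ιV V) ‹IsAffineHom G.hom›
  haveI : LocallyOfFinitePresentation GV.hom :=
    MorphismProperty.pullback_snd (P := @LocallyOfFinitePresentation) G.hom (ιV V) ‹LocallyOfFinitePresentation G.hom›
  haveI : IsSeparated GV.hom := inferInstance
  let g' := pullback.snd g₀ π
  let pV : pullback g₀ π ⟶ Yi := hYi.lift (LimDesc.proj D g₀ c hY j₁) (g' ≫ c.π.app V)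
    (by rw [Category.assoc, c.w φ]; exact hY₁.w)
  have hpV : IsPullback pV g' gi (c.π.app V) := by
    refine IsPullback.of_right ?_ (hYi.lift_snd _ _ _) hYi
    rw [hYi.lift_fst, c.w φ]
    exact hY₁
  let qV : Hη.left ⟶ Xi := hXi.lift q (ιZ.left ≫ pV) (by
    rw [Category.assoc, hYi.lift_fst]; exact hsq.w)
  have hqV : IsPullback qV ιZ.left fi pV := by
    refine IsPullback.of_right ?_ (hXi.lift_snd _ _ _) hXi
    rw [hXi.lift_fst, hYi.lift_fst]
    exact hsq
  have hq : IsPullback qV Hη.hom (fi ≫ gi) (c.π.app V) := by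
    rw [← Over.w ιZ]
    exact hqV.paste_vert hpV
  have hfst : qV ≫ ι₀.left ≫ pullback.fst G.hom (ιV V) = i.left ≫ pullback.fst G.hom (X.fromSpecStalk y) := by
    show qV ≫ (fi ≫ κ.hom) ≫ pullback.fst G.hom (ιV V) = _
    rw [Category.assoc, IsPullback.isoPullback_hom_fst, ← Category.assoc, hqV.w, Category.assoc,
      ← Category.assoc pV, ← Category.assoc pV, hYi.lift_fst, LimDesc.proj_toBase, ← compIso_hom_fst (hπ V₀) G]
    show (i ≫ α.inv).left ≫ α.hom.left ≫ _ = _
    rw [Over.comp_left, Category.assoc, ← Category.assoc α.inv.left, ← Over.comp_left, α.inv_hom_id]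
    simp
  let ε : Red.bc (c.π.app V) H₀ ≅ Hη := (Over.isoMk hq.isoPullback (hq.isoPullback_hom_snd)).symm
  let β : Red.bc (c.π.app V) GV ≅ Red.bc (X.fromSpecStalk y) G := (compIso (hπ V)).app G
  haveI : IsMonHom β.hom := isMonHom_compIso (hπ V) G
  let F := Over.pullback (c.π.app V)
  have hmap : F.map ι₀ ≫ β.hom = ε.hom ≫ i := by
    rw [← Iso.inv_comp_eq]
    ext1
    apply pullback.hom_ext
    · rw [Over.comp_left, Over.comp_left, Category.assoc, Category.assoc]
      erw [compIso_hom_fst (hπ V) G]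
      rw [← hfst]
      show hq.isoPullback.hom ≫ pullback.lift _ _ _ ≫ pullback.fst GV.hom _ ≫ _ = _
      rw [pullback.lift_fst_assoc, Category.assoc]
      erw [IsPullback.isoPullback_hom_fst_assoc]
    · exact (Over.w (ε.inv ≫ F.map ι₀ ≫ β.hom)).trans (Over.w i).symm
  haveI : Mono ι₀ := (Over.forget _).mono_of_mono_map (inferInstanceAs (Mono ι₀.left))
  haveI : Mono (F.map ι₀) := inferInstance
  have hH : ∃ _ : GrpObj (Red.bc (c.π.app V) H₀), IsMonHom (F.map ι₀) := by
    refine MTBridge.exists_grpObj_of_div (F.map ι₀) ⟨η[Hη] ≫ ε.inv, ?_⟩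
      fun T k₁ k₂ => ⟨((k₁ ≫ ε.hom)⁻¹ * (k₂ ≫ ε.hom)) ≫ ε.inv, ?_⟩
    · rw [← cancel_mono β.hom, Category.assoc, Category.assoc, hmap, ε.inv_hom_id_assoc, IsMonHom.one_hom i]
      exact (IsMonHom.one_hom β.hom).symm
    · rw [← cancel_mono β.hom, Category.assoc, Category.assoc, hmap, ε.inv_hom_id_assoc]
      simp only [MonObj.mul_comp, GrpObj.inv_comp, Category.assoc, hmap]
  obtain ⟨W, a, hGW, hmon⟩ := (S18878.result D c hc V GV H₀ ι₀ hH).1
  haveI := hmon
  let γW : Red.bc (D.map a) GV ≅ Red.bc (ιV W) G := (compIso (hιV a)).app G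
  haveI : IsMonHom γW.hom := isMonHom_compIso (hιV a) G
  haveI : IsIso γW.hom.left := inferInstanceAs (IsIso ((Over.forget _).map γW.hom))
  haveI : IsClosedImmersion ((Over.pullback (D.map a)).map ι₀).left :=
    MorphismProperty.baseChange_map (P := @IsClosedImmersion) _ ι₀ inferInstance
  let ψ : Hη.left ⟶ pullback H₀.hom (D.map a) :=
    pullback.lift qV (Hη.hom ≫ c.π.app W) (by rw [Category.assoc, c.w a]; exact hq.w)
  refine ⟨(𝟙 X) ⁻¹ᵁ W.1, c.π.app W, Red.bc (D.map a) H₀, hGW, (Over.pullback (D.map a)).map ι₀ ≫ γW.hom, ψ, hπ W,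
    inferInstance, by rw [Over.comp_left]; infer_instance, ?_, ?_⟩
  · refine IsPullback.of_right ?_ (pullback.lift_snd _ _ _) (IsPullback.of_hasPullback H₀.hom (D.map a))
    rw [pullback.lift_fst, c.w a]
    exact hq
  · rw [← hfst, Over.comp_left, Category.assoc]
    erw [compIso_hom_fst (hιV a) G]
    show pullback.lift _ _ _ ≫ pullback.lift _ _ _ ≫ pullback.fst GV.hom _ ≫ _ = _
    rw [pullback.lift_fst_assoc]
    exact (congrArg (ψ ≫ ·) (Category.assoc _ _ _)).trans (pullback.lift_fst_assoc _ _ _ _)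

end Groth.Agent.LimGrp
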